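import Mathlib

/-!
# PQ, Mackey formula: linear algebra (helper2)

`fac_on`, `lift_on`, `glue`, `inj_ext`, `ext_on`; `pair`: two reductions of a formed space up to isometry.
-/

set_option autoImplicit false
set_option linter.unusedSectionVars false
set_option maxHeartbeats 400000

namespace Cfsg.Agent.PQ.Mk

open Module Submodule

variable {F V V' M N : Type*} [Field F] [AddCommGroup V] [Module F V] [AddCommGroup V'] [Module F V']
  [AddCommGroup M] [Module F M] [AddCommGroup N] [Module F N]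

theorem fac_on (A : Submodule F V) (f : V →ₗ[F] N) (δ : V →ₗ[F] M) (h : ∀ v ∈ A, f v = 0 → δ v = 0) :
    ∃ η : N →ₗ[F] M, ∀ v ∈ A, η (f v) = δ v := by
  have h1 : LinearMap.ker (f.domRestrict A) ≤ LinearMap.ker (δ.domRestrict A) := fun v hv => h v v.2 hv
  obtain ⟨η, hη⟩ := LinearMap.exists_extend (((LinearMap.ker (f.domRestrict A)).liftQ _ h1).comp
    (f.domRestrict A).quotKerEquivRange.symm.toLinearMap)
  refine ⟨η, fun v hv => ?_⟩
  have h2 := LinearMap.congr_fun hη ((f.domRestrict A).quotKerEquivRange (Submodule.Quotient.mk ⟨v, hv⟩))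
  simpa using h2

theorem lift_on (A : Submodule F V) (A' : Submodule F V') (f : V →ₗ[F] N) (p : V' →ₗ[F] N)
    (h : ∀ u ∈ A, ∃ m ∈ A', p m = f u) : ∃ σ : V →ₗ[F] V', ∀ u ∈ A, σ u ∈ A' ∧ p (σ u) = f u := by
  obtain ⟨τ, hτ⟩ := Module.projective_lifting_property (p.domRestrict A').rangeRestrict
    ((f.domRestrict A).codRestrict (LinearMap.range (p.domRestrict A')) fun u => by
      obtain ⟨m, hm, e⟩ := h u u.2
      exact ⟨⟨m, hm⟩, e⟩) (p.domRestrict A').surjective_rangeRestrict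
  obtain ⟨σ, hσ⟩ := LinearMap.exists_extend (A'.subtype.comp τ)
  refine ⟨σ, fun u hu => ?_⟩
  rw [show σ u = τ ⟨u, hu⟩ from LinearMap.congr_fun hσ ⟨u, hu⟩]
  exact ⟨(τ _).2, congrArg Subtype.val (LinearMap.congr_fun hτ ⟨u, hu⟩)⟩

theorem exists_proj (A : Submodule F V) : ∃ r : V →ₗ[F] V, (∀ v, r v ∈ A) ∧ ∀ v ∈ A, r v = v := by
  obtain ⟨r, hr⟩ := LinearMap.exists_extend (LinearMap.id : A →ₗ[F] A)
  exact ⟨A.subtype.comp r, fun v => (r v).2, fun v hv => congrArg Subtype.val (LinearMap.congr_fun hr ⟨v, hv⟩)⟩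

theorem glue (A C : Submodule F V) (α β : V →ₗ[F] M) (h : ∀ v ∈ A, v ∈ C → α v = β v) :
    ∃ γ : V →ₗ[F] M, (∀ v ∈ A, γ v = α v) ∧ ∀ v ∈ C, γ v = β v := by
  obtain ⟨η, hη⟩ := fac_on C A.mkQ (β - α) fun v hv h1 => by
    rw [LinearMap.sub_apply, h v ((Submodule.Quotient.mk_eq_zero A).1 h1) hv, sub_self]
  refine ⟨α + η.comp A.mkQ, fun v hv => ?_, fun v hv => ?_⟩
  · rw [LinearMap.add_apply, LinearMap.comp_apply, show A.mkQ v = 0 from (Submodule.Quotient.mk_eq_zero A).2 hv, map_zero,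
      add_zero]
  · rw [LinearMap.add_apply, LinearMap.comp_apply, hη v hv, LinearMap.sub_apply, add_sub_cancel]

theorem finrank_map_add [FiniteDimensional F V] (A : Submodule F V) (f : V →ₗ[F] M) :
    finrank F (A.map f) + finrank F ↥(A ⊓ LinearMap.ker f) = finrank F A := by
  rw [← (f.domRestrict A).finrank_range_add_finrank_ker, LinearMap.range_domRestrict, LinearMap.ker_domRestrict,
    ← Submodule.finrank_map_subtype_eq A, Submodule.map_comap_subtype]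

theorem finrank_map_inj [FiniteDimensional F V] {A : Submodule F V} {f : V →ₗ[F] M} (h : ∀ v ∈ A, f v = 0 → v = 0) :
    finrank F (A.map f) = finrank F A := by
  rw [← finrank_map_add A f, show A ⊓ LinearMap.ker f = ⊥ from (Submodule.eq_bot_iff _).2 fun v hv => h v hv.1 hv.2,
    finrank_bot, add_zero]

variable [FiniteDimensional F V] [FiniteDimensional F V']

theorem inj_ext {D K : Submodule F V} {K' : Submodule F V'} (hD : D ≤ K) (hK : finrank F K ≤ finrank F K')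
    (e : V →ₗ[F] V') (h1 : ∀ v ∈ D, e v ∈ K') (h2 : ∀ v ∈ D, e v = 0 → v = 0) :
    ∃ κ : V →ₗ[F] V', (∀ v ∈ D, κ v = e v) ∧ (∀ v ∈ K, κ v ∈ K') ∧ ∀ v ∈ K, κ v = 0 → v = 0 := by
  have h3 := finrank_map_add K D.mkQ
  have h4 := finrank_map_add K' (D.map e).mkQ
  rw [Submodule.ker_mkQ, inf_eq_right.2 hD] at h3
  rw [Submodule.ker_mkQ, inf_eq_right.2 (Submodule.map_le_iff_le_comap.2 h1), finrank_map_inj h2] at h4
  obtain ⟨j, hj⟩ := (finrank_le_iff_exists_linearMap (R := F) (M := K.map D.mkQ) (M' := K'.map (D.map e).mkQ)).1 (by omega)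
  obtain ⟨j', hj'⟩ := LinearMap.exists_extend ((K'.map (D.map e).mkQ).subtype.comp j)
  have h5 : ∀ v (hv : v ∈ K), j' (D.mkQ v) = j ⟨_, v, hv, rfl⟩ := fun v hv => LinearMap.congr_fun hj' ⟨_, v, hv, rfl⟩
  obtain ⟨σ, hσ⟩ := lift_on K K' (j'.comp D.mkQ) (D.map e).mkQ fun u hu => by
    rw [LinearMap.comp_apply, h5 u hu]
    exact (j _).2
  obtain ⟨r, hr, hr'⟩ := exists_proj D
  have h6 : ∀ v ∈ D, (e.comp r + σ.comp (1 - r) : V →ₗ[F] V') v = e v := fun v hv => by simp [hr' v hv]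
  have h7 : ∀ v ∈ K, v - r v ∈ K := fun v hv => sub_mem hv (hD (hr v))
  refine ⟨_, h6, fun v hv => add_mem (h1 _ (hr v)) (hσ _ (h7 v hv)).1, fun v hv h0 => ?_⟩
  have h8 : v - r v ∈ D := by
    have h9 := congrArg (D.map e).mkQ h0
    rw [LinearMap.add_apply, map_add, map_zero, show (D.map e).mkQ (e.comp r v) = 0 from
      (Submodule.Quotient.mk_eq_zero _).2 ⟨_, hr v, rfl⟩, zero_add, show σ.comp (1 - r) v = σ (v - r v) from rfl,
      (hσ _ (h7 v hv)).2, LinearMap.comp_apply, h5 _ (h7 v hv)] at h9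
    exact (Submodule.Quotient.mk_eq_zero _).1 (congrArg Subtype.val (hj ((Subtype.ext h9).trans (map_zero j).symm)))
  have h9 : v ∈ D := by simpa using add_mem h8 (hr v)
  exact h2 v h9 (h6 v h9 ▸ h0)

theorem ext_on {D A : Submodule F V} {A' : Submodule F V'} (hD : D ≤ A) {f : V →ₗ[F] M} {f' : V' →ₗ[F] M}
    (hf : ∀ u ∈ A, ∃ m ∈ A', f' m = f u)
    (hK : finrank F ↥(A ⊓ LinearMap.ker f) ≤ finrank F ↥(A' ⊓ LinearMap.ker f')) (e : V →ₗ[F] V')
    (h1 : ∀ v ∈ D, e v ∈ A' ∧ f' (e v) = f v) (h2 : ∀ v ∈ D, e v = 0 → v = 0) :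
    ∃ α : V →ₗ[F] V', (∀ v ∈ D, α v = e v) ∧ (∀ v ∈ A, α v ∈ A' ∧ f' (α v) = f v) ∧ ∀ v ∈ A, α v = 0 → v = 0 := by
  obtain ⟨κ, k1, k2, k3⟩ := inj_ext (D := D ⊓ LinearMap.ker f) (inf_le_inf_right _ hD) hK e
    (fun v hv => ⟨(h1 v hv.1).1, (h1 v hv.1).2.trans hv.2⟩) fun v hv => h2 v hv.1
  obtain ⟨γ, g1, g2⟩ := glue D (A ⊓ LinearMap.ker f) e κ fun v hv hv' => (k1 v ⟨hv, hv'.2⟩).symm
  obtain ⟨r, hr, hr'⟩ := exists_proj (D ⊔ A ⊓ LinearMap.ker f)
  obtain ⟨σ, hσ⟩ := lift_on A A' f f' hf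
  have h3 : ∀ v ∈ D ⊔ A ⊓ LinearMap.ker f, (γ.comp r + σ.comp (1 - r) : V →ₗ[F] V') v = γ v := fun v hv => by simp [hr' v hv]
  have h4 : ∀ v ∈ D ⊔ A ⊓ LinearMap.ker f, γ v ∈ A' ∧ f' (γ v) = f v := fun v hv => by
    obtain ⟨a, ha, b, hb, rfl⟩ := Submodule.mem_sup.1 hv
    rw [map_add, g1 a ha, g2 b hb, map_add, map_add, (h1 a ha).2, show f b = 0 from hb.2,
      show f' (κ b) = 0 from (k2 b hb).2]
    exact ⟨add_mem (h1 a ha).1 (k2 b hb).1, rfl⟩
  have h5 : ∀ v ∈ A, (γ.comp r + σ.comp (1 - r) : V →ₗ[F] V') v ∈ A' ∧ f' ((γ.comp r + σ.comp (1 - r) : V →ₗ[F] V') v) = f v := fun v hv => by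
    have h6 := hσ _ (sub_mem hv (sup_le hD inf_le_left (hr v)))
    refine ⟨add_mem (h4 _ (hr v)).1 h6.1, ?_⟩
    rw [LinearMap.add_apply, map_add, show σ.comp (1 - r) v = σ (v - r v) from rfl, h6.2, LinearMap.comp_apply,
      (h4 _ (hr v)).2, map_sub, add_sub_cancel]
  refine ⟨_, fun v hv => (h3 v (Submodule.mem_sup_left hv)).trans (g1 v hv), h5, fun v hv h0 => ?_⟩
  have h6 : v ∈ A ⊓ LinearMap.ker f := ⟨hv, show f v = 0 by rw [← (h5 v hv).2, h0, map_zero]⟩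
  exact k3 v h6 (by rw [← g2 v h6, ← h3 v (Submodule.mem_sup_right h6), h0])

end Cfsg.Agent.PQ.Mk
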