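import Mathlib

/-!
# PQ, Mackey formula: formed spaces, correspondences, operators (helper2)

`Fm o F V`: symplectic (`o = false`) or orthogonal (`o = true`, polar form nondegenerate) space, `Φ.G` its isometry group.
`Cor Φ Φ' i j`: Lagrangian subspaces `Λ` of `V⁻ ⊥ V'` with `dim (Λ ∩ V) = i`, `dim (Λ ∩ V') = j`.
`op Φ Φ' i j`: the operator on functions whose kernel counts the fixed correspondences.
`h_k = op Φ Φ' k 0` (induction from the stabiliser of a totally singular `k`-space), `h_k* = op Φ' Φ 0 k`.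
-/

set_option autoImplicit false
set_option linter.unusedSectionVars false
set_option maxHeartbeats 400000

namespace Cfsg.Agent.PQ.Mk

open Module

/-- symplectic (`o = false`) or orthogonal (`o = true`) space -/
structure Fm (o : Bool) (F V : Type) [Field F] [AddCommGroup V] [Module F V] where
  B : LinearMap.BilinForm F V
  Q : QuadraticForm F V
  nd : B.Nondegenerate
  sp : o = false → B.IsAlt ∧ Q = 0
  og : o = true → QuadraticMap.polarBilin Q = B

variable {o : Bool} {F V V' : Type} [Field F] [AddCommGroup V] [Module F V] [AddCommGroup V'] [Module F V']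

/-- the isometry group -/
def Fm.G (Φ : Fm o F V) : Subgroup (V ≃ₗ[F] V) where
  carrier := {g | (∀ u v, Φ.B (g u) (g v) = Φ.B u v) ∧ ∀ v, Φ.Q (g v) = Φ.Q v}
  one_mem' := ⟨fun _ _ => rfl, fun _ => rfl⟩
  mul_mem' := fun {a b} ha hb => ⟨fun u v => (ha.1 _ _).trans (hb.1 u v), fun v => (ha.2 _).trans (hb.2 v)⟩
  inv_mem' := fun {a} ha => ⟨fun u v => by
    rw [← ha.1]; exact congrArg₂ (fun x y => Φ.B x y) (a.apply_symm_apply u) (a.apply_symm_apply v), fun v => by
    rw [← ha.2]; exact congrArg Φ.Q (a.apply_symm_apply v)⟩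

theorem Fm.finG [Finite V] (Φ : Fm o F V) : Finite Φ.G :=
  Finite.of_injective (fun g : Φ.G => (g.1 : V → V)) fun _ _ h => Subtype.ext (DFunLike.coe_injective h)

noncomputable instance Fm.fintypeG [Finite V] (Φ : Fm o F V) : Fintype Φ.G :=
  @Fintype.ofFinite _ Φ.finG

/-- `Λ ∩ V` -/
def lf (Λ : Submodule F (V × V')) : Submodule F V := Λ.comap (LinearMap.inl F V V')

/-- `Λ ∩ V'` -/
def rt (Λ : Submodule F (V × V')) : Submodule F V' := Λ.comap (LinearMap.inr F V V')

/-- Lagrangian subspace of `V⁻ ⊥ V'` -/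
structure Lag (Φ : Fm o F V) (Φ' : Fm o F V') (Λ : Submodule F (V × V')) : Prop where
  b : ∀ x ∈ Λ, ∀ y ∈ Λ, Φ.B x.1 y.1 = Φ'.B x.2 y.2
  q : ∀ x ∈ Λ, Φ.Q x.1 = Φ'.Q x.2
  d : 2 * finrank F Λ = finrank F V + finrank F V'

/-- correspondences of type `(i, j)` -/
def Cor (Φ : Fm o F V) (Φ' : Fm o F V') (i j : ℕ) : Set (Submodule F (V × V')) :=
  {Λ | Lag Φ Φ' Λ ∧ finrank F (lf Λ) = i ∧ finrank F (rt Λ) = j}

/-- the action of a pair of automorphisms on subspaces of `V × V'` -/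
def act (g : V ≃ₗ[F] V) (g' : V' ≃ₗ[F] V') (Λ : Submodule F (V × V')) : Submodule F (V × V') :=
  Λ.map (g.prodCongr g' : V × V' →ₗ[F] V × V')

/-- the kernel: number of fixed correspondences -/
noncomputable def K (Φ : Fm o F V) (Φ' : Fm o F V') (i j : ℕ) (g : Φ.G) (g' : Φ'.G) : ℕ :=
  {Λ | Λ ∈ Cor Φ Φ' i j ∧ act g.1 g'.1 Λ = Λ}.ncard

/-- the operator with kernel `K` -/
noncomputable def op [Finite V'] (Φ : Fm o F V) (Φ' : Fm o F V') (i j : ℕ) : (Φ'.G → ℂ) →ₗ[ℂ] Φ.G → ℂ where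
  toFun f g := (Fintype.card Φ'.G : ℂ)⁻¹ * ∑ g', K Φ Φ' i j g g' * f g'
  map_add' f f' := by funext g; simp [mul_add, Finset.sum_add_distrib]
  map_smul' c f := by
    funext g
    simp only [Pi.smul_apply, smul_eq_mul, RingHom.id_apply, Finset.mul_sum]
    exact Finset.sum_congr rfl fun _ _ => by ring

end Cfsg.Agent.PQ.Mk
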