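import Cfsg.Agent.PQ.Mk.Defs
import Cfsg.Agent.PQ.Mk.Lin
import Cfsg.Agent.S0749
import Cfsg.Agent.S0750

/-!
# PQ, Mackey formula: formed spaces and Lagrangian correspondences (helper43)

`Fm.witt`, `Fm.TS`, `Fm.pp`, `Lag.mem`, `Lag.of_max`, `sw`, `cp`, `Lag.cp`, `Lag.type`, `act` lemmas.
-/

set_option autoImplicit false
set_option linter.unusedSectionVars false
set_option maxHeartbeats 400000

namespace Cfsg.Agent.PQ.Mk

open Module

variable {o : Bool} {F V V' V'' : Type} [Field F] [AddCommGroup V] [Module F V] [AddCommGroup V'] [Module F V']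
  [AddCommGroup V''] [Module F V'']

/-- the sign of the form -/
def sg (o : Bool) (F : Type) [Field F] : F := if o then 1 else -1

/-- `1` for orthogonal, `0` for symplectic spaces -/
def pl (o : Bool) (F : Type) [Field F] : F := if o then 1 else 0

namespace Fm

variable (Φ : Fm o F V)

theorem polar (h : o = true) (u v : V) : Φ.B u v = Φ.Q (u + v) - Φ.Q u - Φ.Q v := by
  rw [← Φ.og h]; rfl

theorem flip (u v : V) : Φ.B u v = sg o F * Φ.B v u := by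
  cases o
  · simp [sg, (Φ.sp rfl).1.neg_eq]
  · rw [Φ.polar rfl, Φ.polar rfl, add_comm]; simp only [sg, if_true]; ring

theorem Q_add (u v : V) : Φ.Q (u + v) = Φ.Q u + Φ.Q v + pl o F * Φ.B u v := by
  cases o
  · simp [pl, (Φ.sp rfl).2]
  · rw [Φ.polar rfl]; simp only [pl, if_true]; ring

theorem pl_Q (v : V) : pl o F * Φ.Q v = Φ.Q v := by
  cases o
  · simp [(Φ.sp rfl).2]
  · simp [pl]

theorem B_self (v : V) : Φ.B v v = 2 * Φ.Q v := by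
  cases o
  · simp [(Φ.sp rfl).2, (Φ.sp rfl).1.self_eq_zero]
  · rw [Φ.polar rfl, ← two_smul F v, QuadraticMap.map_smul]; simp only [smul_eq_mul]; ring

theorem refl : Φ.B.IsRefl := fun u v h => by rw [Φ.flip, h, mul_zero]

/-- the orthogonal complement -/
abbrev pp (X : Submodule F V) : Submodule F V := Φ.B.orthogonal X

/-- totally singular subspaces -/
structure TS (X : Submodule F V) : Prop where
  b : ∀ x ∈ X, ∀ y ∈ X, Φ.B x y = 0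
  q : ∀ x ∈ X, Φ.Q x = 0

variable {Φ}

theorem TS.le_pp {X : Submodule F V} (h : Φ.TS X) : X ≤ Φ.pp X := fun y hy x hx => h.b x hx y hy

theorem TS.mono {X Y : Submodule F V} (h : Φ.TS X) (hY : Y ≤ X) : Φ.TS Y :=
  ⟨fun x hx y hy => h.b x (hY hx) y (hY hy), fun x hx => h.q x (hY hx)⟩

theorem TS.sup_span {X : Submodule F V} (h : Φ.TS X) {y : V} (hy : y ∈ Φ.pp X) (hq : Φ.Q y = 0) :
    Φ.TS (X ⊔ Submodule.span F {y}) := by
  have key : ∀ z ∈ X ⊔ Submodule.span F {y}, ∃ x ∈ X, ∃ c : F, z = x + c • y := fun z hz => by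
    obtain ⟨x, hx, w, hw, rfl⟩ := Submodule.mem_sup.1 hz
    obtain ⟨c, rfl⟩ := Submodule.mem_span_singleton.1 hw
    exact ⟨x, hx, c, rfl⟩
  refine ⟨fun z hz z' hz' => ?_, fun z hz => ?_⟩
  · obtain ⟨x, hx, c, rfl⟩ := key z hz
    obtain ⟨x', hx', c', rfl⟩ := key z' hz'
    simp [h.b x hx x' hx', hy x hx, Φ.refl _ _ (hy x' hx'), Φ.B_self, hq]
  · obtain ⟨x, hx, c, rfl⟩ := key z hz
    simp [Φ.Q_add, h.q x hx, QuadraticMap.map_smul, hq, hy x hx]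

variable (Φ) [FiniteDimensional F V]

theorem finrank_pp (X : Submodule F V) : finrank F (Φ.pp X) + finrank F X = finrank F V := by
  rw [LinearMap.BilinForm.finrank_orthogonal Φ.nd]
  have := X.finrank_le
  omega

theorem pp_pp (X : Submodule F V) : Φ.pp (Φ.pp X) = X := LinearMap.BilinForm.orthogonal_orthogonal Φ.nd Φ.refl X

theorem pp_sup (X Y : Submodule F V) : Φ.pp (X ⊔ Y) = Φ.pp X ⊓ Φ.pp Y := by
  refine le_antisymm (le_inf (LinearMap.BilinForm.orthogonal_le le_sup_left)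
    (LinearMap.BilinForm.orthogonal_le le_sup_right)) fun v hv z hz => ?_
  obtain ⟨x, hx, y, hy, rfl⟩ := Submodule.mem_sup.1 hz
  rw [map_add, LinearMap.add_apply, hv.1 x hx, hv.2 y hy, add_zero]

theorem finrank_inf_pp (X Y : Submodule F V) :
    finrank F ↥(Φ.pp X ⊓ Φ.pp Y) + finrank F X + finrank F Y = finrank F V + finrank F ↥(X ⊓ Y) := by
  have h1 := Φ.finrank_pp (X ⊔ Y)
  have h2 := Submodule.finrank_sup_add_finrank_inf_eq X Y
  rw [pp_sup] at h1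
  omega

/-- representation of functionals -/
noncomputable def rep : Module.Dual F V →ₗ[F] V := (Φ.B.flip.toDual Φ.nd.flip).symm

theorem B_rep (η : Module.Dual F V) (v : V) : Φ.B v (Φ.rep η) = η v :=
  LinearMap.BilinForm.apply_toDual_symm_apply (B := Φ.B.flip) (hB := Φ.nd.flip) η v

/-- Witt's lemma -/
theorem witt [Finite F] (A : Submodule F V) (γ : V →ₗ[F] V) (hB : ∀ u ∈ A, ∀ v ∈ A, Φ.B (γ u) (γ v) = Φ.B u v)
    (hQ : ∀ u ∈ A, Φ.Q (γ u) = Φ.Q u) (hi : ∀ v ∈ A, γ v = 0 → v = 0) : ∃ g : Φ.G, ∀ v ∈ A, g.1 v = γ v := by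
  have hj : Function.Injective (γ.domRestrict A) :=
    (injective_iff_map_eq_zero _).2 fun v hv => Subtype.ext (hi v v.2 hv)
  cases o
  · obtain ⟨g, h1, h2⟩ := S0749.result Φ.B Φ.nd (Φ.sp rfl).1 A _ (LinearEquiv.ofInjective _ hj)
      fun x x' => hB x x.2 x' x'.2
    exact ⟨⟨g, h1, fun v => by simp [(Φ.sp rfl).2]⟩, fun v hv => h2 ⟨v, hv⟩⟩
  · obtain ⟨g, h1, h2⟩ := S0750.result Φ.Q ((Φ.og rfl).symm ▸ Φ.nd) A _ (LinearEquiv.ofInjective _ hj)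
      fun x => hQ x x.2
    exact ⟨⟨g, fun u v => by rw [Φ.polar rfl, Φ.polar rfl, ← map_add, h1, h1, h1], h1⟩, fun v hv => h2 ⟨v, hv⟩⟩

variable {Φ}

theorem TS.trans [Finite F] {X Y : Submodule F V} (hX : Φ.TS X) (hY : Φ.TS Y) (h : finrank F X = finrank F Y) :
    ∃ g : Φ.G, X.map (g.1 : V →ₗ[F] V) = Y := by
  obtain ⟨κ, -, k2, k3⟩ := inj_ext (D := ⊥) bot_le h.le (0 : V →ₗ[F] V) (fun _ _ => zero_mem _) fun v hv _ => hv
  obtain ⟨g, hg⟩ := Φ.witt X κ (fun u hu v hv => by rw [hY.b _ (k2 u hu) _ (k2 v hv), hX.b u hu v hv])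
    (fun u hu => by rw [hY.q _ (k2 u hu), hX.q u hu]) k3
  refine ⟨g, Submodule.eq_of_le_of_finrank_eq ?_ ((LinearEquiv.finrank_map_eq _ _).trans h)⟩
  rintro _ ⟨v, hv, rfl⟩
  exact (hg v hv).symm ▸ k2 v hv

end Fm

theorem mem_lf {Λ : Submodule F (V × V')} {v : V} : v ∈ lf Λ ↔ (v, 0) ∈ Λ := Iff.rfl

theorem mem_rt {Λ : Submodule F (V × V')} {v : V'} : v ∈ rt Λ ↔ (0, v) ∈ Λ := Iff.rfl

/-- the transposed correspondence -/
def sw (Λ : Submodule F (V × V')) : Submodule F (V' × V) := Λ.comap (LinearEquiv.prodComm F V' V : V' × V →ₗ[F] V × V')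

theorem mem_sw {Λ : Submodule F (V × V')} {x : V' × V} : x ∈ sw Λ ↔ (x.2, x.1) ∈ Λ := Iff.rfl

theorem sw_sw (Λ : Submodule F (V × V')) : sw (sw Λ) = Λ := rfl

theorem lf_sw (Λ : Submodule F (V × V')) : lf (sw Λ) = rt Λ := rfl

theorem rt_sw (Λ : Submodule F (V × V')) : rt (sw Λ) = lf Λ := rfl

/-- the composite of two correspondences -/
def cp (Λ : Submodule F (V × V'')) (Λ' : Submodule F (V'' × V')) : Submodule F (V × V') where
  carrier := {x | ∃ u, (x.1, u) ∈ Λ ∧ (u, x.2) ∈ Λ'}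
  zero_mem' := ⟨0, zero_mem Λ, zero_mem Λ'⟩
  add_mem' := fun ⟨u, h1, h2⟩ ⟨u', h1', h2'⟩ => ⟨u + u', add_mem h1 h1', add_mem h2 h2'⟩
  smul_mem' := fun c _ ⟨u, h1, h2⟩ => ⟨c • u, Λ.smul_mem c h1, Λ'.smul_mem c h2⟩

theorem mem_cp {Λ : Submodule F (V × V'')} {Λ' : Submodule F (V'' × V')} {x : V × V'} :
    x ∈ cp Λ Λ' ↔ ∃ u, (x.1, u) ∈ Λ ∧ (u, x.2) ∈ Λ' := Iff.rfl

theorem mem_act {g : V ≃ₗ[F] V} {g' : V' ≃ₗ[F] V'} {Λ : Submodule F (V × V')} {x : V × V'} :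
    x ∈ act g g' Λ ↔ (g.symm x.1, g'.symm x.2) ∈ Λ := by
  rw [act, Submodule.mem_map_equiv]; rfl

theorem act_one (Λ : Submodule F (V × V')) : act 1 1 Λ = Λ := by
  ext x; rw [mem_act]; rfl

theorem act_mul (g h : V ≃ₗ[F] V) (g' h' : V' ≃ₗ[F] V') (Λ : Submodule F (V × V')) :
    act (g * h) (g' * h') Λ = act g g' (act h h' Λ) := by
  ext x; simp only [mem_act]; rfl

theorem lf_act (g : V ≃ₗ[F] V) (g' : V' ≃ₗ[F] V') (Λ : Submodule F (V × V')) :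
    lf (act g g' Λ) = (lf Λ).map (g : V →ₗ[F] V) := by
  ext v; rw [mem_lf, mem_act, Submodule.mem_map_equiv, mem_lf, map_zero]

theorem rt_act (g : V ≃ₗ[F] V) (g' : V' ≃ₗ[F] V') (Λ : Submodule F (V × V')) :
    rt (act g g' Λ) = (rt Λ).map (g' : V' →ₗ[F] V') := by
  ext v; rw [mem_rt, mem_act, Submodule.mem_map_equiv, mem_rt, map_zero]

theorem sw_act (g : V ≃ₗ[F] V) (g' : V' ≃ₗ[F] V') (Λ : Submodule F (V × V')) : sw (act g g' Λ) = act g' g (sw Λ) := by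
  ext v; simp only [mem_sw, mem_act]

theorem cp_act (g : V ≃ₗ[F] V) (h : V'' ≃ₗ[F] V'') (g' : V' ≃ₗ[F] V') (Λ : Submodule F (V × V''))
    (Λ' : Submodule F (V'' × V')) : cp (act g h Λ) (act h g' Λ') = act g g' (cp Λ Λ') := by
  ext x
  simp only [mem_cp, mem_act]
  exact ⟨fun ⟨u, h1⟩ => ⟨_, h1⟩, fun ⟨u, h1⟩ => ⟨h u, by simpa using h1⟩⟩

theorem finrank_act (g : V ≃ₗ[F] V) (g' : V' ≃ₗ[F] V') (Λ : Submodule F (V × V')) :
    finrank F (act g g' Λ) = finrank F Λ := LinearEquiv.finrank_map_eq _ _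

namespace Lag

variable {Φ : Fm o F V} {Φ' : Fm o F V'} {Φ'' : Fm o F V''} {Λ Λ' : Submodule F (V × V')}

theorem sw (h : Lag Φ Φ' Λ) : Lag Φ' Φ (sw Λ) where
  b x hx y hy := (h.b _ hx _ hy).symm
  q x hx := (h.q _ hx).symm
  d := by
    rw [Mk.sw, Submodule.comap_equiv_eq_map_symm, LinearEquiv.finrank_map_eq, h.d, add_comm]

theorem act (h : Lag Φ Φ' Λ) (g : Φ.G) (g' : Φ'.G) : Lag Φ Φ' (act g.1 g'.1 Λ) where
  b := by
    rintro _ ⟨x, hx, rfl⟩ _ ⟨y, hy, rfl⟩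
    exact (g.2.1 _ _).trans ((h.b x hx y hy).trans (g'.2.1 _ _).symm)
  q := by
    rintro _ ⟨x, hx, rfl⟩
    exact (g.2.2 _).trans ((h.q x hx).trans (g'.2.2 _).symm)
  d := by rw [finrank_act, h.d]

theorem ts_lf (h : Lag Φ Φ' Λ) : Φ.TS (lf Λ) :=
  ⟨fun x hx y hy => (h.b _ hx _ hy).trans (by simp), fun x hx => (h.q _ hx).trans (by simp)⟩

theorem ts_rt (h : Lag Φ Φ' Λ) : Φ'.TS (rt Λ) := h.sw.ts_lf

theorem fst_mem (h : Lag Φ Φ' Λ) {x : V × V'} (hx : x ∈ Λ) : x.1 ∈ Φ.pp (lf Λ) :=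
  fun y hy => (h.b _ hy _ hx).trans (by simp)

theorem snd_mem (h : Lag Φ Φ' Λ) {x : V × V'} (hx : x ∈ Λ) : x.2 ∈ Φ'.pp (rt Λ) :=
  h.sw.fst_mem (x := (x.2, x.1)) hx

variable [FiniteDimensional F V] [FiniteDimensional F V'] [FiniteDimensional F V'']

theorem eq_of_le (h : Lag Φ Φ' Λ) (h' : Lag Φ Φ' Λ') (hl : Λ ≤ Λ') : Λ = Λ' :=
  Submodule.eq_of_le_of_finrank_eq hl (by have := h.d; have := h'.d; omega)

variable (Φ Φ') in
/-- the form on `V⁻ ⊥ V'` -/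
def bb : LinearMap.BilinForm F (V × V') :=
  Φ.B.comp (LinearMap.fst F V V') (LinearMap.fst F V V') - Φ'.B.comp (LinearMap.snd F V V') (LinearMap.snd F V V')

theorem bb_nd : (bb Φ Φ').Nondegenerate :=
  ⟨fun x hx => Prod.ext (Φ.nd.1 _ fun v => by simpa [bb] using hx (v, 0))
      (Φ'.nd.1 _ fun v => by simpa [bb] using hx (0, v)),
    fun x hx => Prod.ext (Φ.nd.2 _ fun v => by simpa [bb] using hx (v, 0))
      (Φ'.nd.2 _ fun v => by simpa [bb] using hx (0, v))⟩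

theorem finrank_bb (Λ : Submodule F (V × V')) :
    finrank F ((bb Φ Φ').orthogonal Λ) + finrank F Λ = finrank F V + finrank F V' := by
  rw [LinearMap.BilinForm.finrank_orthogonal bb_nd, ← finrank_prod]
  have := Λ.finrank_le
  omega

theorem mem_bb {x : V × V'} : x ∈ (bb Φ Φ').orthogonal Λ ↔ ∀ y ∈ Λ, Φ.B y.1 x.1 = Φ'.B y.2 x.2 :=
  forall₂_congr fun _ _ => sub_eq_zero

theorem mem (h : Lag Φ Φ' Λ) {x : V × V'} (hx : ∀ y ∈ Λ, Φ.B y.1 x.1 = Φ'.B y.2 x.2) : x ∈ Λ := by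
  have h1 : Λ = (bb Φ Φ').orthogonal Λ :=
    Submodule.eq_of_le_of_finrank_eq (fun x hx => mem_bb.2 fun y hy => h.b y hy x hx)
      (by have := finrank_bb (Φ := Φ) (Φ' := Φ') Λ; have := h.d; omega)
  exact h1 ▸ mem_bb.2 hx

theorem of_max (hb : ∀ x ∈ Λ, ∀ y ∈ Λ, Φ.B x.1 y.1 = Φ'.B x.2 y.2) (hq : ∀ x ∈ Λ, Φ.Q x.1 = Φ'.Q x.2)
    (hm : ∀ x : V × V', (∀ y ∈ Λ, Φ.B y.1 x.1 = Φ'.B y.2 x.2) → x ∈ Λ) : Lag Φ Φ' Λ := by
  refine ⟨hb, hq, ?_⟩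
  have h1 : (bb Φ Φ').orthogonal Λ = Λ :=
    le_antisymm (fun x hx => hm x (mem_bb.1 hx)) fun x hx => mem_bb.2 fun y hy => hb y hy x hx
  have := finrank_bb (Φ := Φ) (Φ' := Φ') Λ
  rw [h1] at this
  omega

theorem ex_fst (h : Lag Φ Φ' Λ) {u : V'} (hu : u ∈ Φ'.pp (rt Λ)) : ∃ v, (v, u) ∈ Λ := by
  obtain ⟨η, hη⟩ := fac_on Λ (LinearMap.fst F V V') ((Φ'.B.flip u).comp (LinearMap.snd F V V')) fun x hx h0 =>
    hu x.2 (by rw [mem_rt, ← show x.1 = 0 from h0]; exact hx)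
  exact ⟨Φ.rep η, h.mem fun y hy => (Φ.B_rep η _).trans (hη y hy)⟩

theorem ex_snd (h : Lag Φ Φ' Λ) {v : V} (hv : v ∈ Φ.pp (lf Λ)) : ∃ u, (v, u) ∈ Λ := h.sw.ex_fst hv

theorem map_fst (h : Lag Φ Φ' Λ) : Λ.map (LinearMap.fst F V V') = Φ.pp (lf Λ) :=
  le_antisymm (by rintro _ ⟨x, hx, rfl⟩; exact h.fst_mem hx) fun v hv => by
    obtain ⟨u, hu⟩ := h.ex_snd hv
    exact ⟨_, hu, rfl⟩

theorem map_snd (h : Lag Φ Φ' Λ) : Λ.map (LinearMap.snd F V V') = Φ'.pp (rt Λ) :=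
  le_antisymm (by rintro _ ⟨x, hx, rfl⟩; exact h.snd_mem hx) fun v hv => by
    obtain ⟨u, hu⟩ := h.ex_fst hv
    exact ⟨_, hu, rfl⟩

end Lag

theorem finrank_fst [FiniteDimensional F V] [FiniteDimensional F V'] (Λ : Submodule F (V × V')) :
    finrank F (Λ.map (LinearMap.fst F V V')) + finrank F (rt Λ) = finrank F Λ := by
  rw [← finrank_map_add Λ (LinearMap.fst F V V'), ← finrank_map_inj (A := rt Λ) (f := LinearMap.inr F V V')
    fun v _ hv => (Prod.ext_iff.1 hv).2, rt, Submodule.map_comap_eq, LinearMap.range_inr, inf_comm]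

namespace Lag

variable {Φ : Fm o F V} {Φ' : Fm o F V'} {Φ'' : Fm o F V''} {Λ : Submodule F (V × V')}
  [FiniteDimensional F V] [FiniteDimensional F V'] [FiniteDimensional F V'']

/-- the relation between the two types -/
theorem type (h : Lag Φ Φ' Λ) : finrank F V + 2 * finrank F (rt Λ) = finrank F V' + 2 * finrank F (lf Λ) := by
  have h1 := finrank_fst Λ
  have h2 := Φ.finrank_pp (lf Λ)
  have h3 := h.d
  rw [h.map_fst] at h1
  omega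

theorem cp {Λ : Submodule F (V × V'')} {Λ' : Submodule F (V'' × V')} (h : Lag Φ Φ'' Λ) (h' : Lag Φ'' Φ' Λ') :
    Lag Φ Φ' (cp Λ Λ') := by
  refine of_max (fun x ⟨u, x1, x2⟩ y ⟨w, y1, y2⟩ => (h.b _ x1 _ y1).trans (h'.b _ x2 _ y2))
    (fun x ⟨u, x1, x2⟩ => (h.q _ x1).trans (h'.q _ x2)) fun x hx => ?_
  obtain ⟨η, hη⟩ := fac_on Λ (LinearMap.snd F V V'') ((Φ.B.flip x.1).comp (LinearMap.fst F V V'')) fun y hy h0 =>
    (hx (y.1, 0) ⟨0, by rw [← show y.2 = 0 from h0]; exact hy, zero_mem Λ'⟩).trans (by simp)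
  obtain ⟨η', hη'⟩ := fac_on Λ' (LinearMap.fst F V'' V') ((Φ'.B.flip x.2).comp (LinearMap.snd F V'' V')) fun y hy h0 =>
    (hx (0, y.2) ⟨0, zero_mem Λ, by rw [← show y.1 = 0 from h0]; exact hy⟩).symm.trans (by simp)
  obtain ⟨γ, g1, g2⟩ := glue (Λ.map (LinearMap.snd F V V'')) (Λ'.map (LinearMap.fst F V'' V')) η η' (by
    rintro _ ⟨y, hy, rfl⟩ ⟨z, hz, e⟩
    rw [hη y hy, ← e, hη' z hz]
    exact hx (y.1, z.2) ⟨y.2, hy, by rw [← show z.1 = y.2 from e]; exact hz⟩)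
  exact ⟨Φ''.rep γ, h.mem fun y hy => ((Φ''.B_rep γ _).trans ((g1 _ ⟨y, hy, rfl⟩).trans (hη y hy))).symm,
    h'.mem fun y hy => (Φ''.B_rep γ _).trans ((g2 _ ⟨y, hy, rfl⟩).trans (hη' y hy))⟩

end Lag

end Cfsg.Agent.PQ.Mk
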