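import Cfsg.Agent.PQ.Mk.Form

/-!
# PQ, Mackey formula: the orbits of `G''` on pairs of correspondences (helper43)
-/

set_option autoImplicit false
set_option linter.unusedSectionVars false
set_option maxHeartbeats 400000

namespace Cfsg.Agent.PQ.Mk

open Module

variable {o : Bool} {F V V' V'' : Type} [Field F] [AddCommGroup V] [Module F V] [AddCommGroup V'] [Module F V']
  [AddCommGroup V''] [Module F V''] [FiniteDimensional F V] [FiniteDimensional F V'] [FiniteDimensional F V'']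

/-- extension of an injective section of a linear relation -/
theorem ext_rel (R : Submodule F (V × V')) {D A : Submodule F V} (hD : D ≤ A) (hA : ∀ u ∈ A, ∃ u', (u, u') ∈ R)
    (hK : finrank F (lf R) ≤ finrank F (rt R)) (e : V →ₗ[F] V') (h1 : ∀ v ∈ D, (v, e v) ∈ R)
    (h2 : ∀ v ∈ D, e v = 0 → v = 0) :
    ∃ α : V →ₗ[F] V', (∀ v ∈ D, α v = e v) ∧ (∀ v ∈ A, (v, α v) ∈ R) ∧ ∀ v ∈ A, α v = 0 → v = 0 := by
  have key : ∀ (u : V) (m : V'), (-(R.mkQ.comp (LinearMap.inr F V V'))) m = R.mkQ.comp (LinearMap.inl F V V') u ↔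
      (u, m) ∈ R := fun u m => by
    rw [← Submodule.Quotient.mk_eq_zero, LinearMap.neg_apply, neg_eq_iff_add_eq_zero, LinearMap.comp_apply,
      LinearMap.comp_apply, ← map_add]
    simp
  obtain ⟨α, a1, a2, a3⟩ := ext_on (A' := ⊤) hD (f := R.mkQ.comp (LinearMap.inl F V V'))
    (f' := -(R.mkQ.comp (LinearMap.inr F V V')))
    (fun u hu => by
      obtain ⟨u', h⟩ := hA u hu
      exact ⟨u', trivial, (key u u').2 h⟩)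
    (by
      rw [top_inf_eq, LinearMap.ker_neg, LinearMap.ker_comp, LinearMap.ker_comp, Submodule.ker_mkQ]
      exact (Submodule.finrank_mono inf_le_right).trans hK)
    e (fun v hv => ⟨trivial, (key _ _).2 (h1 v hv)⟩) h2
  exact ⟨α, a1, fun v hv => (key _ _).1 (a2 v hv).2, a3⟩

variable {Φ : Fm o F V} {Φ' : Fm o F V'} {Φ'' : Fm o F V''} [Finite F]

/-- two Lagrangians of `V⁻ ⊥ V` which are compatible with the graph of one isometry -/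
theorem two {R S : Submodule F (V × V)} (hR : Lag Φ Φ R) (hS : Lag Φ Φ S)
    (h1 : ∀ u u₁ u₂, (u, u₁) ∈ R → (u, u₂) ∈ S → ∃ u', (u, u') ∈ R ∧ (u, u') ∈ S)
    (h2 : finrank F ↥(lf R ⊓ lf S) = finrank F ↥(rt R ⊓ rt S)) :
    ∃ g : Φ.G, (∀ x ∈ R, (x.1, g.1 x.1) ∈ R) ∧ ∀ x ∈ S, (x.1, g.1 x.1) ∈ S := by
  have tR : finrank F (lf R) = finrank F (rt R) := by have := hR.type; omega
  have tS : finrank F (lf S) = finrank F (rt S) := by have := hS.type; omega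
  set A := Φ.pp (lf R) with hA
  set C := Φ.pp (lf S) with hC
  obtain ⟨δ, -, d2, d3⟩ := ext_rel (R ⊓ S) (D := ⊥) (A := A ⊓ C) bot_le
    (fun u hu => by
      obtain ⟨u₁, e₁⟩ := hR.ex_snd hu.1
      obtain ⟨u₂, e₂⟩ := hS.ex_snd hu.2
      exact h1 u u₁ u₂ e₁ e₂) h2.le 0 (fun v hv => by rw [show v = 0 from hv]; exact zero_mem _) fun v hv _ => hv
  obtain ⟨α, a1, a2, a3⟩ := ext_rel R (D := A ⊓ C) (A := A) inf_le_left (fun u hu => hR.ex_snd hu) tR.le δ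
    (fun v hv => (d2 v hv).1) d3
  obtain ⟨β, b1, b2, -⟩ := ext_rel S (D := A ⊓ C) (A := C) inf_le_right (fun u hu => hS.ex_snd hu) tS.le δ
    (fun v hv => (d2 v hv).2) d3
  have hD : (A ⊓ C).map α = Φ.pp (rt R) ⊓ Φ.pp (rt S) := by
    refine Submodule.eq_of_le_of_finrank_eq ?_ ?_
    · rintro _ ⟨v, hv, rfl⟩
      rw [a1 v hv]
      exact ⟨hR.snd_mem (d2 v hv).1, hS.snd_mem (d2 v hv).2⟩
    · rw [finrank_map_inj (A := A ⊓ C) fun v hv => a3 v hv.1]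
      have e1 := Φ.finrank_inf_pp (lf R) (lf S)
      have e2 := Φ.finrank_inf_pp (rt R) (rt S)
      rw [← hA, ← hC] at e1
      omega
  obtain ⟨r, hr, hr'⟩ := exists_proj C
  obtain ⟨s, hs, hs'⟩ := exists_proj (A ⊓ C)
  obtain ⟨η, hη⟩ := fac_on A α (Φ.B.compl₂ r - (Φ.B.comp α (β.comp r) : V →ₗ[F] V →ₗ[F] F)) fun v hv h0 => by
    rw [a3 v hv h0, map_zero]
  have hη' : ∀ a ∈ A, ∀ c, η (α a) c = Φ.B a (r c) - Φ.B (α a) (β (r c)) := fun a ha c => by rw [hη a ha]; rfl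
  obtain ⟨Ψ, p1, p2⟩ := glue (A.map α) (Φ.pp (rt S)) η 0 (by
    rintro _ ⟨a, ha, rfl⟩ hc
    obtain ⟨d, hd, e⟩ := hD.ge ⟨hR.snd_mem (a2 a ha), hc⟩
    have e1 : a = d := sub_eq_zero.1 (a3 _ (sub_mem ha hd.1) (by rw [map_sub, e, sub_self]))
    subst e1
    ext c
    rw [hη' a ha, a1 a hd, ← b1 a hd]
    exact sub_eq_zero.2 (hS.b _ (b2 a hd.2) _ (b2 _ (hr c))))
  let β' : V →ₗ[F] V := β + (Φ.rep.comp Ψ.flip).comp (1 - s)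
  have q1 : ∀ c, β' c = β c + Φ.rep (Ψ.flip (c - s c)) := fun _ => rfl
  have q2 : ∀ c ∈ C, (c, β' c) ∈ S := fun c hc => by
    have : Φ.rep (Ψ.flip (c - s c)) ∈ rt S := by
      rw [← Φ.pp_pp (rt S)]
      intro w hw
      rw [Φ.B_rep, LinearMap.flip_apply, p2 w hw]; rfl
    simpa [q1] using add_mem (b2 c hc) (mem_rt.1 this)
  have q3 : ∀ a ∈ A, ∀ c ∈ C, Φ.B (α a) (β' c) = Φ.B a c := fun a ha c hc => by
    have e1 := hR.b _ (a2 a ha) _ (a2 _ (hs c).1)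
    rw [q1, map_add, Φ.B_rep, LinearMap.flip_apply, p1 _ ⟨a, ha, rfl⟩, hη' a ha, hr' _ (sub_mem hc (hs c).2), map_sub,
      map_sub, map_sub, b1 _ (hs c), ← a1 _ (hs c), ← show Φ.B a (s c) = Φ.B (α a) (α (s c)) from e1]
    ring
  obtain ⟨γ, g1, g2⟩ := glue A C α β' fun v hv hv' => by
    rw [q1, hs' v ⟨hv, hv'⟩, sub_self, map_zero, map_zero, add_zero, a1 v ⟨hv, hv'⟩, b1 v ⟨hv, hv'⟩]
  have gB : ∀ u ∈ A ⊔ C, ∀ v ∈ A ⊔ C, Φ.B (γ u) (γ v) = Φ.B u v := fun u hu v hv => by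
    obtain ⟨a, ha, c, hc, rfl⟩ := Submodule.mem_sup.1 hu
    obtain ⟨a', ha', c', hc', rfl⟩ := Submodule.mem_sup.1 hv
    have e1 : Φ.B a a' = Φ.B (α a) (α a') := hR.b _ (a2 a ha) _ (a2 _ ha')
    have e2 : Φ.B c c' = Φ.B (β' c) (β' c') := hS.b _ (q2 c hc) _ (q2 _ hc')
    simp only [map_add, LinearMap.add_apply, g1 a ha, g1 a' ha', g2 c hc, g2 c' hc', q3 a ha c' hc', e1, e2]
    rw [Φ.flip (β' c), q3 a' ha' c hc, ← Φ.flip]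
  obtain ⟨g, hg⟩ := Φ.witt (A ⊔ C) γ gB
    (fun u hu => by
      obtain ⟨a, ha, c, hc, rfl⟩ := Submodule.mem_sup.1 hu
      have e1 : Φ.Q a = Φ.Q (α a) := hR.q _ (a2 a ha)
      have e2 : Φ.Q c = Φ.Q (β' c) := hS.q _ (q2 c hc)
      rw [map_add, Φ.Q_add, Φ.Q_add, g1 a ha, g2 c hc, q3 a ha c hc, e1, e2])
    fun v hv h0 => by
      have e1 : v ∈ lf R := by
        rw [← Φ.pp_pp (lf R)]
        intro w hw
        rw [← gB w (Submodule.mem_sup_left hw) v hv, h0, map_zero]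
      have e2 : v ∈ A := hR.ts_lf.le_pp e1
      exact a3 v e2 (g1 v e2 ▸ h0)
  refine ⟨g, fun x hx => ?_, fun x hx => ?_⟩
  · have e := hR.fst_mem hx
    rw [hg _ (Submodule.mem_sup_left e), g1 _ e]
    exact a2 _ e
  · have e := hS.fst_mem hx
    rw [hg _ (Submodule.mem_sup_right e), g2 _ e]
    exact q2 _ e

theorem act_eq {Λ Λ' : Submodule F (V × V')} (h : Lag Φ Φ' Λ) (h' : Lag Φ Φ' Λ') (g : Φ.G) (g' : Φ'.G)
    (e : ∀ x ∈ Λ, (g.1 x.1, g'.1 x.2) ∈ Λ') : act g.1 g'.1 Λ = Λ' :=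
  (h.act g g').eq_of_le h' (by rintro _ ⟨x, hx, rfl⟩; exact e x hx)

theorem mem_of_lf {Λ Λ' : Submodule F (V × V')} (e : lf Λ = lf Λ') {v : V} {u u' : V'} (h : (v, u) ∈ Λ)
    (h' : (u, u') ∈ cp (sw Λ) Λ') : (v, u') ∈ Λ' := by
  obtain ⟨w, w1, w2⟩ := h'
  have w3 : (w, u) ∈ Λ := w1
  have w4 : (w, u') ∈ Λ' := w2
  have e1 : v - w ∈ lf Λ := by simpa [mem_lf] using sub_mem h w3
  have e2 : (v - w, 0) ∈ Λ' := mem_lf.1 (e ▸ e1)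
  simpa using add_mem e2 w4

/-- `G'` is transitive on the Lagrangians with a given left part -/
theorem one {Λ Λ' : Submodule F (V × V')} (h : Lag Φ Φ' Λ) (h' : Lag Φ Φ' Λ') (e : lf Λ = lf Λ') :
    ∃ g' : Φ'.G, act 1 g'.1 Λ = Λ' := by
  have hR := h.sw.cp h'
  obtain ⟨g, hg, -⟩ := two hR hR (fun u u₁ _ h1 _ => ⟨u₁, h1, h1⟩) (by
    rw [inf_idem, inf_idem]; have := hR.type; omega)
  refine ⟨g, act_eq h h' 1 g fun x hx => ?_⟩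
  obtain ⟨u, hu⟩ := h'.ex_snd (e ▸ h.fst_mem hx)
  exact mem_of_lf e hx (hg (x.2, u) ⟨x.1, hx, hu⟩)

theorem lf_cp_sw {Λ Λ' : Submodule F (V × V')} (e : lf Λ = lf Λ') : lf (cp (sw Λ) Λ') = rt Λ := by
  ext u
  refine ⟨fun ⟨v, h1, h2⟩ => ?_, fun h => ⟨0, h, zero_mem _⟩⟩
  have h3 : (v, u) ∈ Λ := h1
  have h4 : v ∈ lf Λ' := h2
  have h5 : (v, 0) ∈ Λ := mem_lf.1 (e ▸ h4)
  simpa [mem_rt] using sub_mem h3 h5

theorem rt_cp_sw {Λ Λ' : Submodule F (V × V')} (e : lf Λ = lf Λ') : rt (cp (sw Λ) Λ') = rt Λ' := by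
  ext u
  refine ⟨fun ⟨v, h1, h2⟩ => ?_, fun h => ⟨0, zero_mem _, h⟩⟩
  have h3 : (v, u) ∈ Λ' := h2
  have h4 : v ∈ lf Λ := h1
  have h5 : (v, 0) ∈ Λ' := mem_lf.1 (e ▸ h4)
  simpa [mem_rt] using sub_mem h3 h5

/-- the orbits of `G''` on pairs -/
theorem pair {Λ₁ Λ₁' : Submodule F (V × V'')} {Λ₂ Λ₂' : Submodule F (V'' × V')} (h₁ : Lag Φ Φ'' Λ₁)
    (h₁' : Lag Φ Φ'' Λ₁') (h₂ : Lag Φ'' Φ' Λ₂) (h₂' : Lag Φ'' Φ' Λ₂') (e₁ : lf Λ₁ = lf Λ₁') (e₂ : rt Λ₂ = rt Λ₂')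
    (e : cp Λ₁ Λ₂ = cp Λ₁' Λ₂') (ea : finrank F ↥(rt Λ₁ ⊓ lf Λ₂) = finrank F ↥(rt Λ₁' ⊓ lf Λ₂')) :
    ∃ h : Φ''.G, act 1 h.1 Λ₁ = Λ₁' ∧ act h.1 1 Λ₂ = Λ₂' := by
  have e₂' : lf (sw Λ₂) = lf (sw Λ₂') := e₂
  obtain ⟨g, g1, g2⟩ := two (h₁.sw.cp h₁') (h₂.sw.sw.cp h₂'.sw)
    (fun u u₁ u₂ ⟨v, v1, _⟩ ⟨w, w1, _⟩ => by
      obtain ⟨t, t1, t2⟩ := e.le (show (v, w) ∈ cp Λ₁ Λ₂ from ⟨u, v1, w1⟩)
      exact ⟨t, ⟨v, v1, t1⟩, ⟨w, w1, t2⟩⟩)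
    (by rw [lf_cp_sw e₁, lf_cp_sw e₂', rt_cp_sw e₁, rt_cp_sw e₂']; exact ea)
  refine ⟨g, act_eq h₁ h₁' 1 g fun x hx => ?_, act_eq h₂ h₂' g 1 fun x hx => ?_⟩
  · obtain ⟨u, hu⟩ := h₁'.ex_snd (e₁ ▸ h₁.fst_mem hx)
    exact mem_of_lf e₁ hx (g1 (x.2, u) ⟨x.1, hx, hu⟩)
  · obtain ⟨u, hu⟩ := h₂'.ex_fst (e₂ ▸ h₂.snd_mem hx)
    exact mem_of_lf e₂' (v := x.2) (u := x.1) hx (g2 (x.1, u) ⟨x.2, hx, hu⟩)

end Cfsg.Agent.PQ.Mk
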